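import Groth.Agent.MTBridge.ChartsAll
import Groth.Prelude.Def_TwC
import Mathlib

/-!
A domain which is finite and unramified over a discrete valuation ring, stable under the Galois group,
and splits a given isotrivial torus.
-/

set_option autoImplicit false
set_option backward.isDefEq.respectTransparency false
set_option backward.isDefEq.respectTransparency.types false
set_option linter.style.haveILetI false
set_option maxHeartbeats 1000000
set_option synthInstance.maxHeartbeats 400000

universe u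

open CategoryTheory Limits AlgebraicGeometry TensorProduct

noncomputable section

namespace Groth.Agent.IsoTorusPts

variable {A : Type u} [CommRing A]

/-- An isotrivial torus is split by a non-zero finite etale algebra. -/
theorem exists_split [Nontrivial A] (T : Over (Spec (CommRingCat.of A))) [GrpObj T] (r : ℕ)
    (hT : TwC.Locally (Spec (CommRingCat.of A)) .finiteEtale
        (fun S' g => Red.IsSplitTorusWith (Fin r → ℤ) (Red.bc g T))) :
    ∃ (B : Type u) (_ : CommRing B) (_ : Algebra A B), Nontrivial B ∧ Module.Finite A B ∧ Algebra.Etale A B ∧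
      Nonempty (Grp.mk (Red.bc (Spec.map (CommRingCat.ofHom (algebraMap A B))) T) ≅
        Grp.mk (Red.DS (Spec (CommRingCat.of B)) (Fin r → ℤ))) := by
  obtain ⟨S', f, hf, he, hs, hloc⟩ := hT
  haveI : Nonempty ↥(Spec (CommRingCat.of A)) := inferInstanceAs (Nonempty (PrimeSpectrum A))
  obtain ⟨s, -⟩ := hs.surj (Classical.arbitrary ↥(Spec (CommRingCat.of A)))
  obtain ⟨U, hU, hUc, ⟨e⟩⟩ := hloc s
  haveI : IsClosedImmersion U.ι := IsClosedImmersion.of_isPreimmersion _ (by rwa [Scheme.Opens.range_ι])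
  haveI : IsAffine S' := isAffine_of_isAffineHom f
  haveI : IsAffine (U : Scheme.{u}) := isAffine_of_isAffineHom U.ι
  obtain ⟨φ, hφ⟩ := Spec.map_surjective ((U : Scheme.{u}).isoSpec.inv ≫ U.ι ≫ f)
  letI := φ.hom.toAlgebra
  haveI h1 : IsFinite (Spec.map φ) := by rw [hφ]; infer_instance
  haveI h2 : Etale (Spec.map φ) := by rw [hφ]; infer_instance
  refine ⟨Γ(U, ⊤), inferInstance, φ.hom.toAlgebra, ?_, ?_, ?_, ?_⟩
  · refine (subsingleton_or_nontrivial Γ(U, ⊤)).resolve_left fun h => ?_
    haveI : IsEmpty ↥(Spec Γ(U, ⊤)) := inferInstanceAs (IsEmpty (PrimeSpectrum Γ(U, ⊤)))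
    exact IsEmpty.false ((U : Scheme.{u}).isoSpec.hom ⟨s, hU⟩)
  · exact RingHom.finite_algebraMap.1 ((IsFinite.SpecMap_iff φ).1 h1)
  · exact RingHom.etale_algebraMap.1 ((HasRingHomProperty.Spec_iff (P := @Etale)).1 h2)
  · exact ⟨MTBridge.bcCongr (f' := (U : Scheme.{u}).isoSpec.inv ≫ U.ι ≫ f) hφ T ≪≫ MTBridge.bcComp (U.ι ≫ f) _ T ≪≫
      MTBridge.bcMapIso _ e ≪≫ MTBridge.bcDS _ _⟩

/-- An isotrivial torus is affine. -/
theorem isAffineHom_of_finiteEtale (T : Over (Spec (CommRingCat.of A))) [GrpObj T] (r : ℕ)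
    (hT : TwC.Locally (Spec (CommRingCat.of A)) .finiteEtale
        (fun S' g => Red.IsSplitTorusWith (Fin r → ℤ) (Red.bc g T))) : IsAffineHom T.hom := by
  refine MTBridge.isAffineHom_of_locally T ?_
  obtain ⟨S', f, hf, he, hs, hloc⟩ := hT
  refine ⟨S', f, inferInstance, hs, fun V hV => ⟨f ⁻¹ᵁ V, (hV.preimage f).isCompact,
    Set.image_preimage_eq _ hs.surj⟩, fun s => ?_⟩
  obtain ⟨U, hU, -, h⟩ := hloc s
  exact ⟨U, hU, Fin r → ℤ, inferInstance, h⟩

variable [IsDomain A]

theorem finite_algHom (B : Type u) [CommRing B] [Algebra A B] [Module.Finite A B] (L : Type u) [CommRing L]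
    [IsDomain L] [Algebra A L] : Finite (B →ₐ[A] L) := by
  classical
  obtain ⟨s, hs⟩ := Module.Finite.fg_top (R := A) (M := B)
  choose p hp hp' using fun b : B => IsIntegral.of_finite A b
  let Φ : (B →ₐ[A] L) → ((b : s) → {x : L // x ∈ ((p b.1).map (algebraMap A L)).roots.toFinset}) :=
    fun f b => ⟨f b.1, by
      rw [Multiset.mem_toFinset, Polynomial.mem_roots ((hp b.1).map _).ne_zero, Polynomial.IsRoot.def,
        Polynomial.eval_map_algebraMap, Polynomial.aeval_algHom_apply]
      show f (Polynomial.eval₂ (algebraMap A B) b.1 (p b.1)) = 0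
      rw [hp' b.1, map_zero]⟩
  refine Finite.of_injective Φ fun f g hfg => AlgHom.toLinearMap_injective (LinearMap.ext_on hs fun b hb => ?_)
  exact congrArg Subtype.val (congrFun hfg ⟨b, hb⟩)

section

variable (B0 : Type u) [CommRing B0] [Algebra A B0]

/-- The separable closure of the fraction field. -/
abbrev Ks (A : Type u) [CommRing A] [IsDomain A] : Type u := SeparableClosure (FractionRing A)

/-- The subalgebra generated by all conjugates of a finite algebra. -/
def conj : Subalgebra A (Ks A) := Algebra.adjoin A (⋃ f : B0 →ₐ[A] Ks A, Set.range f)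

theorem mem_conj (f : B0 →ₐ[A] Ks A) (x : B0) : f x ∈ conj B0 :=
  Algebra.subset_adjoin (Set.mem_iUnion.2 ⟨f, ⟨x, rfl⟩⟩)

instance [Module.Finite A B0] : Module.Finite A (conj (A := A) B0) := by
  classical
  haveI := finite_algHom (A := A) B0 (Ks A)
  obtain ⟨s, hs⟩ := Module.Finite.fg_top (R := A) (M := B0)
  let t : Set (Ks A) := ⋃ f : B0 →ₐ[A] Ks A, f '' (s : Set B0)
  have ht : t.Finite := Set.finite_iUnion fun f => s.finite_toSet.image f
  have he : conj (A := A) B0 = Algebra.adjoin A t := by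
    refine le_antisymm (Algebra.adjoin_le ?_) (Algebra.adjoin_mono (Set.iUnion_mono fun f => Set.image_subset_range _ _))
    intro y hy
    obtain ⟨f, x, rfl⟩ := Set.mem_iUnion.1 hy
    have hx : f x ∈ Submodule.span A (f '' (s : Set B0)) := by
      show f x ∈ Submodule.span A (f.toLinearMap '' (s : Set B0))
      rw [← Submodule.map_span, hs]
      exact ⟨x, trivial, rfl⟩
    exact Algebra.span_le_adjoin A t (Submodule.span_mono (fun y hy => Set.mem_iUnion.2 ⟨f, hy⟩) hx)
  rw [he]
  refine Module.Finite.iff_fg.2 (fg_adjoin_of_finite ht fun y hy => ?_)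
  obtain ⟨f, x, -, rfl⟩ := Set.mem_iUnion.1 hy
  exact (IsIntegral.of_finite A x).map f

instance [Algebra.FormallyUnramified A B0] : Algebra.FormallyUnramified A (conj (A := A) B0) := by
  refine ⟨?_⟩
  have h0 : ∀ b : conj (A := A) B0, KaehlerDifferential.D A (conj (A := A) B0) b = 0 := by
    rintro ⟨y, hy⟩
    induction hy using Algebra.adjoin_induction with
    | mem y hy =>
      obtain ⟨f, x, rfl⟩ := Set.mem_iUnion.1 hy
      let f' : B0 →ₐ[A] conj (A := A) B0 := f.codRestrict _ (mem_conj B0 f)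
      letI := f'.toRingHom.toAlgebra
      haveI : IsScalarTower A B0 (conj (A := A) B0) := IsScalarTower.of_algebraMap_eq fun a => (f'.commutes a).symm
      have h : KaehlerDifferential.map A A B0 (conj (A := A) B0) (KaehlerDifferential.D A B0 x) =
          KaehlerDifferential.D A (conj (A := A) B0) (f' x) := KaehlerDifferential.map_D _ _ _ _ x
      rw [Subsingleton.elim (KaehlerDifferential.D A B0 x) 0, map_zero] at h
      exact h.symm
    | algebraMap a => exact (KaehlerDifferential.D A (conj (A := A) B0)).map_algebraMap a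
    | add y z hy hz ihy ihz =>
      exact ((KaehlerDifferential.D A (conj (A := A) B0)).map_add ⟨y, hy⟩ ⟨z, hz⟩).trans (by rw [ihy, ihz, add_zero])
    | mul y z hy hz ihy ihz =>
      exact ((KaehlerDifferential.D A (conj (A := A) B0)).leibniz ⟨y, hy⟩ ⟨z, hz⟩).trans
        (by rw [ihy, ihz, smul_zero, smul_zero, add_zero])
  refine subsingleton_of_forall_eq 0 fun w => ?_
  have hw : w ∈ Submodule.span (conj (A := A) B0) (Set.range (KaehlerDifferential.D A (conj (A := A) B0))) := by
    rw [KaehlerDifferential.span_range_derivation]; trivial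
  refine (Submodule.mem_bot (conj (A := A) B0)).1 ((Submodule.span_le.2 ?_) hw)
  rintro _ ⟨b, rfl⟩
  exact h0 b

theorem map_mem_conj (σ : Ks A ≃ₐ[FractionRing A] Ks A) {y : Ks A} (hy : y ∈ conj B0) :
    σ y ∈ conj B0 := by
  have h : (conj B0).map (σ.toAlgHom.restrictScalars A) ≤ conj B0 := by
    rw [conj, AlgHom.map_adjoin]
    refine Algebra.adjoin_le ?_
    rintro _ ⟨_, hy, rfl⟩
    obtain ⟨f, x, rfl⟩ := Set.mem_iUnion.1 hy
    exact mem_conj B0 ((σ.toAlgHom.restrictScalars A).comp f) x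
  exact h ⟨y, hy, rfl⟩

/-- The action on the conjugate algebra. -/
def conjEquiv (σ : Ks A ≃ₐ[FractionRing A] Ks A) : conj (A := A) B0 ≃ₐ[A] conj (A := A) B0 where
  toFun y := ⟨σ y, map_mem_conj B0 σ y.2⟩
  invFun y := ⟨σ.symm y, map_mem_conj B0 σ.symm y.2⟩
  left_inv y := Subtype.ext (σ.symm_apply_apply y.1)
  right_inv y := Subtype.ext (σ.apply_symm_apply y.1)
  map_mul' y z := Subtype.ext (map_mul σ y.1 z.1)
  map_add' y z := Subtype.ext (map_add σ y.1 z.1)
  commutes' a := Subtype.ext ((σ.restrictScalars A).commutes a)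

theorem exists_algHom [Nontrivial B0] [Module.Finite A B0] [Algebra.Etale A B0] [IsPrincipalIdealRing A] :
    Nonempty (B0 →ₐ[A] Ks A) := by
  let K := FractionRing A
  haveI : Nontrivial (K ⊗[A] B0) := Module.FaithfullyFlat.rTensor_nontrivial A _ K
  obtain ⟨m, hm⟩ := Ideal.exists_maximal (K ⊗[A] B0)
  letI : Field ((K ⊗[A] B0) ⧸ m) := Ideal.Quotient.field m
  haveI : Algebra.FormallyUnramified (K ⊗[A] B0) ((K ⊗[A] B0) ⧸ m) :=
    Algebra.FormallyUnramified.of_surjective (Algebra.ofId _ _) Ideal.Quotient.mk_surjective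
  haveI : Algebra.FormallyUnramified K ((K ⊗[A] B0) ⧸ m) := Algebra.FormallyUnramified.comp K (K ⊗[A] B0) _
  haveI : Algebra.IsSeparable K ((K ⊗[A] B0) ⧸ m) := Algebra.FormallyUnramified.isSeparable K _
  let l : ((K ⊗[A] B0) ⧸ m) →ₐ[K] Ks A := IsSepClosed.lift
  exact ⟨((l.comp (Ideal.Quotient.mkₐ K m)).restrictScalars A).comp Algebra.TensorProduct.includeRight⟩

theorem exists_div_of_fixed (b c : conj (A := A) B0) (hc : c ≠ 0)
    (h : ∀ g : conj (A := A) B0 ≃ₐ[A] conj (A := A) B0, g b * c = b * g c) :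
    ∃ a a' : A, a' ≠ 0 ∧ algebraMap A _ a * c = b * algebraMap A _ a' := by
  have hc' : (c : Ks A) ≠ 0 := fun h => hc (Subtype.ext h)
  have hfix : ∀ σ : Ks A ≃ₐ[FractionRing A] Ks A, σ ((b : Ks A) / c) = (b : Ks A) / c := by
    intro σ
    have h' := congrArg Subtype.val (h (conjEquiv B0 σ))
    rw [map_div₀, div_eq_div_iff (by simpa using hc') hc']
    exact h'
  obtain ⟨k, hk⟩ := (InfiniteGalois.mem_range_algebraMap_iff_fixed (k := FractionRing A) (K := Ks A) _).2 hfix
  obtain ⟨a, a', ha', rfl⟩ := IsFractionRing.div_surjective (A := A) k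
  refine ⟨a, a', nonZeroDivisors.ne_zero ha', Subtype.ext ?_⟩
  show algebraMap A (Ks A) a * c = b * algebraMap A (Ks A) a'
  rw [map_div₀, ← IsScalarTower.algebraMap_apply, ← IsScalarTower.algebraMap_apply, div_eq_div_iff ?_ hc'] at hk
  · exact hk
  · rw [IsScalarTower.algebraMap_apply A (FractionRing A) (Ks A), ne_eq, map_eq_zero,
      IsFractionRing.to_map_eq_zero_iff]
    exact nonZeroDivisors.ne_zero ha'

end

/-- The Galois splitting of an isotrivial torus. -/
theorem exists_galois_split [IsPrincipalIdealRing A] (T : Over (Spec (CommRingCat.of A))) [GrpObj T] (r : ℕ)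
    (hT : TwC.Locally (Spec (CommRingCat.of A)) .finiteEtale
        (fun S' g => Red.IsSplitTorusWith (Fin r → ℤ) (Red.bc g T))) :
    ∃ (B : Type u) (_ : CommRing B) (_ : Algebra A B), IsDomain B ∧ FaithfulSMul A B ∧ Module.Finite A B ∧
      Algebra.FormallyUnramified A B ∧
      Nonempty (Grp.mk (Red.bc (Spec.map (CommRingCat.ofHom (algebraMap A B))) T) ≅
        Grp.mk (Red.DS (Spec (CommRingCat.of B)) (Fin r → ℤ))) ∧
      ∀ b c : B, c ≠ 0 → (∀ g : B ≃ₐ[A] B, g b * c = b * g c) →
        ∃ a a' : A, a' ≠ 0 ∧ algebraMap A B a * c = b * algebraMap A B a' := by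
  obtain ⟨B0, _, _, _, _, _, ⟨φ⟩⟩ := exists_split T r hT
  obtain ⟨f⟩ := exists_algHom (A := A) B0
  let f' : B0 →ₐ[A] conj (A := A) B0 := f.codRestrict _ (mem_conj B0 f)
  refine ⟨conj (A := A) B0, inferInstance, inferInstance, inferInstance, ?_, inferInstance, inferInstance,
    ⟨?_⟩, exists_div_of_fixed B0⟩
  · rw [faithfulSMul_iff_algebraMap_injective]
    intro a b h
    exact IsFractionRing.injective A (FractionRing A)
      ((algebraMap (FractionRing A) (Ks A)).injective (by
        rw [← IsScalarTower.algebraMap_apply, ← IsScalarTower.algebraMap_apply]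
        exact congrArg Subtype.val h))
  · refine MTBridge.bcCongr (f' := Spec.map (CommRingCat.ofHom f'.toRingHom) ≫
      Spec.map (CommRingCat.ofHom (algebraMap A B0))) ?_ T ≪≫ MTBridge.bcComp _ _ T ≪≫
      MTBridge.bcMapIso _ φ ≪≫ MTBridge.bcDS _ _
    rw [← Spec.map_comp]
    congr 1
    refine CommRingCat.hom_ext (RingHom.ext fun a => ?_)
    exact (f'.commutes a).symm

end Groth.Agent.IsoTorusPts
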