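import Groth.Agent.IsoTorusPts.Completion

/-!
The completion of a finite unramified extension at a place over the closed point.
-/

set_option autoImplicit false
set_option backward.isDefEq.respectTransparency false
set_option backward.isDefEq.respectTransparency.types false
set_option linter.style.haveILetI false
set_option maxHeartbeats 1000000
set_option synthInstance.maxHeartbeats 400000

universe u

open IsDedekindDomain TensorProduct

noncomputable section

namespace Groth.Agent.IsoTorusPts

theorem isDomain_of_maximal_eq_span {O : Type u} [CommRing O] [IsLocalRing O] [IsNoetherianRing O] {p : O}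
    (hp : IsLocalRing.maximalIdeal O = Ideal.span {p}) (hn : ∀ n : ℕ, p ^ n ≠ 0) :
    IsDomain O ∧ ∀ x : O, x ≠ 0 → ∃ (u : Oˣ) (n : ℕ), x = u * p ^ n := by
  have hfac : ∀ x : O, x ≠ 0 → ∃ (u : Oˣ) (n : ℕ), x = u * p ^ n := by
    intro x hx
    by_contra h
    refine hx ((Submodule.mem_bot O).1 ?_)
    rw [← Ideal.iInf_pow_eq_bot_of_isLocalRing (IsLocalRing.maximalIdeal O) (IsLocalRing.maximalIdeal.isMaximal O).ne_top,
      Submodule.mem_iInf]
    intro n
    induction n with
    | zero => simp
    | succ n ih =>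
      rw [hp, Ideal.span_singleton_pow, Ideal.mem_span_singleton] at ih ⊢
      obtain ⟨y, rfl⟩ := ih
      by_cases hy : IsUnit y
      · exact absurd ⟨hy.unit, n, by rw [IsUnit.unit_spec, mul_comm]⟩ h
      · obtain ⟨z, rfl⟩ := Ideal.mem_span_singleton.1 (hp.le ((IsLocalRing.mem_maximalIdeal y).2 hy))
        exact ⟨z, by ring⟩
  refine ⟨?_, hfac⟩
  haveI : NoZeroDivisors O := ⟨fun {x y} h => by
    by_contra h'
    push Not at h'
    obtain ⟨u, n, rfl⟩ := hfac x h'.1
    obtain ⟨w, m, rfl⟩ := hfac y h'.2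
    refine hn (n + m) ((u * w).isUnit.mul_right_eq_zero.1 ?_)
    rw [← h, Units.val_mul, pow_add]
    ring⟩
  exact NoZeroDivisors.to_isDomain O

variable {A : Type u} [CommRing A] [IsDomain A] [IsDiscreteValuationRing A] (v : HeightOneSpectrum A)

local notation "Khat" => v.adicCompletion (FractionRing A)
local notation "Ahat" => v.adicCompletionIntegers (FractionRing A)

/-- The data of the completion at a place of a finite unramified extension. -/
structure Place (B : Type u) [CommRing B] [Algebra A B] (π : A) where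
  O : Type u
  E : Type u
  [crO : CommRing O]
  [fE : Field E]
  [algO : Algebra A O]
  [algE : Algebra A E]
  iO : O →ₐ[A] E
  ψO : B →ₐ[A] O
  j : Khat →ₐ[A] E
  w : Ideal B
  w_prime : w.IsPrime
  π_mem : algebraMap A B π ∈ w
  w_maximal : w.IsMaximal
  iO_inj : Function.Injective iO
  ψ_inj : Function.Injective ψO
  unit_of_notMem : ∀ b : B, b ∉ w → IsUnit (ψO b)
  dvd_of_mem : ∀ b : B, b ∈ w → algebraMap A O π ∣ ψO b
  unit_add : ∀ x y : O, IsUnit x → IsUnit (x + algebraMap A O π * y)
  exists_unit_mul_zpow : ∀ e : E, e ≠ 0 → ∃ (u : Oˣ) (n : ℤ), e = iO u * algebraMap A E π ^ n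
  unique_zpow : ∀ (u u' : Oˣ) (n n' : ℤ), iO u * algebraMap A E π ^ n = iO u' * algebraMap A E π ^ n' → n = n'
  mem_integers : ∀ (k : Khat) (o : O), iO o = j k → k ∈ Ahat
  symm : ∀ g : B ≃ₐ[A] B, (∀ b, g b ∈ w ↔ b ∈ w) →
    ∃ (τ : E →ₐ[A] E) (τO : O →ₐ[A] O), τ.comp iO = iO.comp τO ∧ τ.comp j = j ∧ τO.comp ψO = ψO.comp g.toAlgHom

attribute [instance] Place.crO Place.fE Place.algO Place.algE

/-- A place from a local algebra with maximal ideal generated by the uniformiser. -/
theorem place_of {B : Type u} [CommRing B] [Algebra A B] {π : A} (hπ : Irreducible π)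
    {O : Type u} [CommRing O] [IsDomain O] [IsLocalRing O] [Algebra A O] [Algebra Ahat O] [IsScalarTower A Ahat O]
    (hmax : IsLocalRing.maximalIdeal O = Ideal.span {algebraMap A O π})
    (hnp : ∀ n : ℕ, algebraMap A O π ^ n ≠ 0)
    (hfac : ∀ x : O, x ≠ 0 → ∃ (u : Oˣ) (n : ℕ), x = u * algebraMap A O π ^ n)
    (ψO : B →ₐ[A] O) (hψ : Function.Injective ψO) (w : Ideal B) (hw : w.IsMaximal) (hπw : algebraMap A B π ∈ w)
    (hunit : ∀ b, b ∉ w → IsUnit (ψO b)) (hmem : ∀ b, b ∈ w → ¬ IsUnit (ψO b))
    (hsym : ∀ g : B ≃ₐ[A] B, (∀ b, g b ∈ w ↔ b ∈ w) →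
      ∃ τ : O →ₐ[Ahat] O, ∀ b, τ (ψO b) = ψO (g b)) :
    Nonempty (Place v B π) := by
  let E := FractionRing O
  have hp : Irreducible (algebraMap A Ahat π) := irreducible_algebraMap v hπ
  have hpu : ¬ IsUnit (algebraMap A O π) := fun h => by
    have : algebraMap A O π ∈ IsLocalRing.maximalIdeal O := by rw [hmax]; exact Ideal.mem_span_singleton_self _
    exact this h
  have hp0 : algebraMap A O π ≠ 0 := by simpa using hnp 1
  have hpE : algebraMap A E π ≠ 0 := by
    rw [IsScalarTower.algebraMap_apply A O E, ne_eq, IsFractionRing.to_map_eq_zero_iff]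
    exact hp0
  have hinjO : Function.Injective (algebraMap Ahat O) := by
    rw [injective_iff_map_eq_zero]
    intro a ha
    by_contra h
    obtain ⟨n, u, rfl⟩ := IsDiscreteValuationRing.eq_unit_mul_pow_irreducible h hp
    rw [map_mul, map_pow, (u.isUnit.map _).mul_right_eq_zero, ← IsScalarTower.algebraMap_apply] at ha
    exact hnp n ha
  let jR : Khat →+* E := IsFractionRing.lift (A := Ahat) (K := Khat)
    (g := (algebraMap O E).comp (algebraMap Ahat O)) ((IsFractionRing.injective O E).comp hinjO)
  have hjR : ∀ a : Ahat, jR (algebraMap Ahat Khat a) = algebraMap O E (algebraMap Ahat O a) := fun a =>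
    IsFractionRing.lift_algebraMap (K := Khat) _ a
  let j : Khat →ₐ[A] E :=
    { jR with
      commutes' := fun a => by
        show jR (algebraMap A Khat a) = algebraMap A E a
        rw [IsScalarTower.algebraMap_apply A Ahat Khat, hjR, IsScalarTower.algebraMap_apply A O E,
          IsScalarTower.algebraMap_apply A Ahat O] }
  refine ⟨{
    O := O
    E := E
    iO := IsScalarTower.toAlgHom A O E
    ψO := ψO
    j := j
    w := w
    w_prime := hw.isPrime
    π_mem := hπw
    w_maximal := hw
    iO_inj := IsFractionRing.injective O E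
    ψ_inj := hψ
    unit_of_notMem := hunit
    dvd_of_mem := ?_
    unit_add := ?_
    exists_unit_mul_zpow := ?_
    unique_zpow := ?_
    mem_integers := ?_
    symm := ?_ }⟩
  · intro b hb
    rw [← Ideal.mem_span_singleton, ← hmax, IsLocalRing.mem_maximalIdeal, mem_nonunits_iff]
    exact hmem b hb
  · intro x y hx
    by_contra h
    have h2 : algebraMap A O π * y ∈ IsLocalRing.maximalIdeal O := by
      rw [hmax]
      exact Ideal.mul_mem_right _ _ (Ideal.mem_span_singleton_self _)
    have h1 := (IsLocalRing.maximalIdeal O).sub_mem ((IsLocalRing.mem_maximalIdeal _).2 h) h2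
    rw [add_sub_cancel_right] at h1
    exact h1 hx
  · intro e he
    obtain ⟨a, b, hb, rfl⟩ := IsFractionRing.div_surjective (A := O) e
    have ha : a ≠ 0 := fun h => he (by rw [h, map_zero, zero_div])
    obtain ⟨u, n, rfl⟩ := hfac a ha
    obtain ⟨u', n', rfl⟩ := hfac b (nonZeroDivisors.ne_zero hb)
    refine ⟨u * u'⁻¹, (n : ℤ) - n', ?_⟩
    show _ = algebraMap O E _ * _
    have h1 : algebraMap O E (u'⁻¹ : Oˣ) = (algebraMap O E u')⁻¹ := eq_inv_of_mul_eq_one_left (by
      rw [← map_mul, Units.inv_mul, map_one])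
    rw [zpow_sub₀ hpE, zpow_natCast, zpow_natCast, Units.val_mul, map_mul, map_mul, map_mul, map_pow, map_pow,
      ← IsScalarTower.algebraMap_apply A O E, h1, mul_div_mul_comm]
    rw [div_eq_mul_inv (algebraMap O E (u : O))]
  · intro u u' n n' h
    change algebraMap O E (u : O) * _ = algebraMap O E (u' : O) * _ at h
    by_contra hne
    wlog hlt : n < n' generalizing u u' n n'
    · exact this u' u n' n h.symm (Ne.symm hne) (lt_of_le_of_ne (not_lt.1 hlt) (Ne.symm hne))
    obtain ⟨k, rfl⟩ : ∃ k : ℕ, n' = n + (k + 1 : ℕ) := ⟨(n' - n - 1).toNat, by omega⟩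
    rw [zpow_add₀ hpE, zpow_natCast, IsScalarTower.algebraMap_apply A O E, ← mul_assoc, mul_comm (algebraMap O E (u' : O)),
      mul_assoc, mul_comm (algebraMap O E (u : O)), ← map_pow, ← map_mul] at h
    have h2 : (u : O) = u' * algebraMap A O π ^ (k + 1) :=
      IsFractionRing.injective O E (mul_left_cancel₀ (zpow_ne_zero n (by rwa [← IsScalarTower.algebraMap_apply])) h)
    exact hpu ((isUnit_pow_iff (Nat.succ_ne_zero k)).1 (isUnit_of_mul_isUnit_right (h2 ▸ u.isUnit)))
  · intro k o h
    by_contra hk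
    have hk' : k⁻¹ ∈ Ahat := ((v.adicCompletionIntegers (FractionRing A)).mem_or_inv_mem k).resolve_left hk
    have hk0 : k ≠ 0 := fun e => hk (e ▸ zero_mem _)
    let c : Ahat := ⟨k⁻¹, hk'⟩
    have hc : ¬ IsUnit c := fun ⟨c', hc'⟩ => hk (by
      have h1 : algebraMap Ahat Khat c * algebraMap Ahat Khat (c'⁻¹ : (Ahat)ˣ) = 1 := by
        rw [← map_mul, ← hc', Units.mul_inv, map_one]
      have h2 : k = algebraMap Ahat Khat (c'⁻¹ : (Ahat)ˣ) := by
        rw [← one_mul (algebraMap Ahat Khat (c'⁻¹ : (Ahat)ˣ)), ← mul_inv_cancel₀ hk0, mul_assoc]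
        exact ((mul_one k).symm.trans (congrArg (k * ·) h1.symm))
      rw [h2]
      exact ((c'⁻¹ : (Ahat)ˣ) : Ahat).2)
    obtain ⟨d, hd⟩ := Ideal.mem_span_singleton.1 (hp.maximalIdeal_eq.le ((IsLocalRing.mem_maximalIdeal c).2 hc))
    have h1 : algebraMap O E o * algebraMap O E (algebraMap Ahat O c) = 1 := by
      change algebraMap O E o = jR k at h
      rw [h, ← hjR, ← map_mul, show algebraMap Ahat Khat c = k⁻¹ from rfl, mul_inv_cancel₀ hk0, map_one]
    rw [← map_mul, ← map_one (algebraMap O E)] at h1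
    have h2 := IsFractionRing.injective O E h1
    rw [hd, map_mul, ← IsScalarTower.algebraMap_apply] at h2
    exact hpu (IsUnit.of_mul_eq_one (o * algebraMap Ahat O d) (by rw [← h2]; ring))
  · intro g hg
    obtain ⟨τ', hτ'⟩ := hsym g hg
    have hτinj : Function.Injective τ' := by
      rw [injective_iff_map_eq_zero]
      intro x hx
      by_contra hx0
      obtain ⟨u, n, rfl⟩ := hfac x hx0
      rw [map_mul, map_pow, (u.isUnit.map τ').mul_right_eq_zero, IsScalarTower.algebraMap_apply A Ahat O,
        τ'.commutes, ← IsScalarTower.algebraMap_apply] at hx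
      exact hnp n hx
    let τE : E →+* E := IsFractionRing.lift (A := O) (K := E) (g := (algebraMap O E).comp τ'.toRingHom)
      ((IsFractionRing.injective O E).comp hτinj)
    have hτE : ∀ x : O, τE (algebraMap O E x) = algebraMap O E (τ' x) := fun x =>
      IsFractionRing.lift_algebraMap (K := E) _ x
    let τ : E →ₐ[A] E :=
      { τE with
        commutes' := fun a => by
          show τE (algebraMap A E a) = algebraMap A E a
          rw [IsScalarTower.algebraMap_apply A O E, hτE, IsScalarTower.algebraMap_apply A Ahat O, τ'.commutes] }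
    refine ⟨τ, τ'.restrictScalars A, AlgHom.ext fun x => hτE x, AlgHom.coe_ringHom_injective ?_, AlgHom.ext hτ'⟩
    refine IsLocalization.ringHom_ext (nonZeroDivisors Ahat) (RingHom.ext fun a => ?_)
    show τE (jR (algebraMap Ahat Khat a)) = jR (algebraMap Ahat Khat a)
    rw [hjR, hτE, τ'.commutes]

theorem nonempty_place (B : Type u) [CommRing B] [IsDomain B] [Algebra A B] [FaithfulSMul A B] [Module.Finite A B]
    [Algebra.FormallyUnramified A B] {π : A} (hπ : Irreducible π) : Nonempty (Place v B π) := by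
  haveI : Module.IsTorsionFree A B := .of_smul_eq_zero fun a b h => by
    rw [Algebra.smul_def, mul_eq_zero, map_eq_zero_iff _ (FaithfulSMul.algebraMap_injective A B)] at h
    exact h
  haveI : Module.Free A B := Module.free_of_finite_type_torsion_free'
  let B' := Ahat ⊗[A] B
  let i : B →ₐ[A] B' := Algebra.TensorProduct.includeRight
  let p : Ahat := algebraMap A Ahat π
  have hp : Irreducible p := irreducible_algebraMap v hπ
  haveI : IsNoetherianRing B' := Algebra.FiniteType.isNoetherianRing Ahat B'
  have hfree : Module.Free Ahat B' := inferInstance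
  have hreg : ∀ (n : ℕ) (x : B'), algebraMap Ahat B' p ^ n * x = 0 → x = 0 := by
    intro n x hx
    rw [← map_pow, ← Algebra.smul_def, smul_eq_zero] at hx
    exact hx.resolve_left (pow_ne_zero n hp.ne_zero)
  haveI : Nontrivial B' := by
    haveI : Module.FaithfullyFlat A B := inferInstance
    exact Module.FaithfullyFlat.rTensor_nontrivial A _ _
  haveI : FaithfulSMul Ahat B' := inferInstance
  obtain ⟨m, hm, hmA⟩ := Ideal.exists_ideal_over_maximal_of_isIntegral (S := B') (IsLocalRing.maximalIdeal Ahat)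
    (by rw [(RingHom.injective_iff_ker_eq_bot _).1 (FaithfulSMul.algebraMap_injective Ahat B')]; exact bot_le)
  have hpm : algebraMap Ahat B' p ∈ m := by
    show p ∈ m.comap (algebraMap Ahat B')
    rw [hmA, hp.maximalIdeal_eq]
    exact Ideal.mem_span_singleton_self p
  haveI : m.LiesOver (IsLocalRing.maximalIdeal Ahat) := ⟨hmA.symm⟩
  let O := Localization.AtPrime m
  haveI : IsLocalHom (algebraMap Ahat O) := by
    refine ⟨fun a ha => ?_⟩
    rw [IsScalarTower.algebraMap_apply Ahat B' O, IsLocalization.AtPrime.isUnit_to_map_iff O m] at ha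
    by_contra h
    exact ha (by show a ∈ m.comap (algebraMap Ahat B'); rw [hmA]; exact h)
  haveI : Algebra.FormallyUnramified Ahat O := Algebra.FormallyUnramified.comp Ahat B' O
  haveI : Algebra.EssFiniteType Ahat O := Algebra.EssFiniteType.comp Ahat B' O
  haveI : IsNoetherianRing O := IsLocalization.isNoetherianRing m.primeCompl O inferInstance
  let pO : O := algebraMap Ahat O p
  have hmax : IsLocalRing.maximalIdeal O = Ideal.span {pO} := by
    rw [← Algebra.FormallyUnramified.map_maximalIdeal (R := Ahat) (S := O), hp.maximalIdeal_eq, Ideal.map_span,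
      Set.image_singleton]
  have hnp : ∀ n : ℕ, pO ^ n ≠ 0 := by
    intro n h
    rw [← map_pow, IsScalarTower.algebraMap_apply Ahat B' O, IsLocalization.map_eq_zero_iff m.primeCompl] at h
    obtain ⟨⟨c, hc⟩, h⟩ := h
    rw [map_pow, mul_comm] at h
    exact hc ((hreg n c h).symm ▸ m.zero_mem)
  obtain ⟨hdom, hfac⟩ := isDomain_of_maximal_eq_span (O := O) (p := pO) hmax hnp
  haveI := hdom
  have hpO : algebraMap A O π = pO := IsScalarTower.algebraMap_apply A Ahat O π
  have hinjO : Function.Injective (algebraMap Ahat O) := by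
    rw [injective_iff_map_eq_zero]
    intro a ha
    by_contra h
    obtain ⟨n, u, rfl⟩ := IsDiscreteValuationRing.eq_unit_mul_pow_irreducible h hp
    rw [map_mul, map_pow, (u.isUnit.map _).mul_right_eq_zero] at ha
    exact hnp n ha
  let ψO : B →ₐ[A] O := (IsScalarTower.toAlgHom A B' O).comp i
  let w : Ideal B := m.comap i
  have hw : w.IsPrime := Ideal.IsPrime.comap i
  have hπw : algebraMap A B π ∈ w := by
    show i (algebraMap A B π) ∈ m
    rw [AlgHom.commutes, IsScalarTower.algebraMap_apply A Ahat B']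
    exact hpm
  have hψinj : Function.Injective ψO := by
    have hk : RingHom.ker ψO.toRingHom = ⊥ := by
      haveI : (RingHom.ker ψO.toRingHom).IsPrime := RingHom.ker_isPrime _
      refine Ideal.eq_bot_of_comap_eq_bot (R := A) ?_
      rw [eq_bot_iff]
      intro a ha
      have ha' : ψO (algebraMap A B a) = 0 := ha
      rw [AlgHom.commutes, IsScalarTower.algebraMap_apply A Ahat O, map_eq_zero_iff _ hinjO,
        map_eq_zero_iff _ (FaithfulSMul.algebraMap_injective A Ahat)] at ha'
      exact ha'
    exact (RingHom.injective_iff_ker_eq_bot ψO.toRingHom).2 hk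
  refine place_of v hπ (O := O) (hpO.symm ▸ hmax) (hpO.symm ▸ hnp) (hpO.symm ▸ hfac) ψO hψinj w ?_ hπw
    (fun b hb => IsLocalization.map_units O (⟨i b, hb⟩ : m.primeCompl))
    (fun b hb h => (IsLocalization.AtPrime.isUnit_to_map_iff O m (i b)).1 h hb) ?_
  · haveI := hw
    refine Ideal.isMaximal_of_isIntegral_of_isMaximal_comap (R := A) w ?_
    have : w.comap (algebraMap A B) = IsLocalRing.maximalIdeal A := by
      refine ((IsLocalRing.maximalIdeal.isMaximal A).eq_of_le (Ideal.IsPrime.comap _).ne_top ?_).symm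
      rw [hπ.maximalIdeal_eq, Ideal.span_singleton_le_iff_mem]
      exact hπw
    rw [this]
    exact IsLocalRing.maximalIdeal.isMaximal A
  · intro g hg
    let σ : B' →ₐ[Ahat] B' := Algebra.TensorProduct.map (AlgHom.id Ahat Ahat) g.toAlgHom
    have hrep : ∀ x : B', ∃ (b : B) (y : B'), x = i b + algebraMap Ahat B' p * y := by
      intro x
      induction x using TensorProduct.induction_on with
      | zero => exact ⟨0, 0, by simp⟩
      | tmul a b =>
        obtain ⟨a0, c, hc⟩ := exists_sub_mem v hπ a
        refine ⟨algebraMap A B a0 * b, c ⊗ₜ b, ?_⟩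
        rw [map_mul, AlgHom.commutes, Algebra.TensorProduct.algebraMap_apply, Algebra.TensorProduct.algebraMap_apply]
        show a ⊗ₜ[A] b = algebraMap A Ahat a0 ⊗ₜ[A] (1 : B) * (1 ⊗ₜ[A] b) + (algebraMap Ahat Ahat p) ⊗ₜ[A] (1 : B) * (c ⊗ₜ[A] b)
        rw [Algebra.TensorProduct.tmul_mul_tmul, Algebra.TensorProduct.tmul_mul_tmul, mul_one, one_mul,
          ← TensorProduct.add_tmul, Algebra.algebraMap_self_apply, ← hc, add_sub_cancel]
      | add x y hx hy =>
        obtain ⟨b, z, rfl⟩ := hx
        obtain ⟨b', z', rfl⟩ := hy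
        exact ⟨b + b', z + z', by rw [map_add]; ring⟩
    have hσi : ∀ b : B, σ (i b) = i (g b) := fun b => by
      show Algebra.TensorProduct.map (AlgHom.id Ahat Ahat) g.toAlgHom ((1 : Ahat) ⊗ₜ[A] b) = _
      rw [Algebra.TensorProduct.map_tmul]
      rfl
    have hcomap : m = m.comap σ.toRingHom := by
      refine hm.eq_of_le (Ideal.IsPrime.comap σ.toRingHom).ne_top fun x hx => ?_
      obtain ⟨b, y, rfl⟩ := hrep x
      show σ (i b + algebraMap Ahat B' p * y) ∈ m
      rw [map_add, map_mul, AlgHom.commutes, hσi]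
      refine m.add_mem ?_ (m.mul_mem_right _ hpm)
      exact (hg b).2 (show i b ∈ m by simpa using m.sub_mem hx (m.mul_mem_right y hpm))
    let τR : O →+* O := Localization.localRingHom m m σ.toRingHom hcomap
    have hτB : ∀ x : B', τR (algebraMap B' O x) = algebraMap B' O (σ x) := fun x =>
      Localization.localRingHom_to_map m m σ.toRingHom hcomap x
    exact ⟨{ τR with
      commutes' := fun a => by
        show τR (algebraMap Ahat O a) = algebraMap Ahat O a
        rw [IsScalarTower.algebraMap_apply Ahat B' O, hτB, AlgHom.commutes] },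
      fun b => (hτB (i b)).trans (congrArg (algebraMap B' O) (hσi b))⟩

end Groth.Agent.IsoTorusPts
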