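import Groth.Agent.IsoTorusPts.Char
import Groth.Agent.IsoTorusPts.Galois
import Groth.Agent.IsoTorusPts.Local

/-!
The points of an isotrivial torus over the completion are products of integral and rational points.
-/

set_option autoImplicit false
set_option backward.isDefEq.respectTransparency false
set_option backward.isDefEq.respectTransparency.types false
set_option linter.style.haveILetI false
set_option linter.unusedSectionVars false
set_option synthInstance.maxHeartbeats 400000
set_option maxHeartbeats 1000000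

universe u

open CategoryTheory Limits MonoidalCategory CartesianMonoidalCategory AlgebraicGeometry IsDedekindDomain
open scoped MonObj CategoryTheory.Obj

noncomputable section

namespace Groth.Agent.IsoTorusPts

section Affine

variable {A : Type u} [CommRing A] {T : Over (Spec (CommRingCat.of A))} [IsAffine T.left]

/-- The ring map of a point of an affine object. -/
def ev {R : Type u} [CommRing R] [Algebra A R] (p : Sp A R ⟶ T) : Γ(T.left, ⊤) →+* R :=
  (Spec.preimage (show Spec (CommRingCat.of R) ⟶ Spec Γ(T.left, ⊤) from p.left ≫ T.left.isoSpec.hom)).hom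

theorem spec_ev {R : Type u} [CommRing R] [Algebra A R] (p : Sp A R ⟶ T) :
    Spec.map (CommRingCat.ofHom (ev p)) = p.left ≫ T.left.isoSpec.hom :=
  Spec.map_preimage _

theorem ev_comp {R R' : Type u} [CommRing R] [Algebra A R] [CommRing R'] [Algebra A R'] (g : R →ₐ[A] R')
    (p : Sp A R ⟶ T) : ev (SpMap g ≫ p) = g.toRingHom.comp (ev p) := by
  have h : Spec.map (CommRingCat.ofHom (ev (SpMap g ≫ p))) =
      Spec.map (CommRingCat.ofHom (g.toRingHom.comp (ev p))) := by
    rw [spec_ev, CommRingCat.ofHom_comp, Spec.map_comp, spec_ev]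
    exact Category.assoc _ _ _
  exact congrArg CommRingCat.Hom.hom (Spec.map_injective h)

theorem exists_factor {R R' : Type u} [CommRing R] [Algebra A R] [CommRing R'] [Algebra A R'] (g : R →ₐ[A] R')
    (hg : Function.Injective g) (p : Sp A R' ⟶ T) (h : ∀ t, ev p t ∈ g.range) :
    ∃ p' : Sp A R ⟶ T, SpMap g ≫ p' = p := by
  let e : R ≃+* g.toRingHom.range :=
    RingEquiv.ofBijective g.toRingHom.rangeRestrict ⟨fun a b hab => hg (congrArg Subtype.val hab),
      g.toRingHom.rangeRestrict_surjective⟩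
  let f : Γ(T.left, ⊤) →+* R := e.symm.toRingHom.comp ((ev p).codRestrict g.toRingHom.range h)
  have hf : g.toRingHom.comp f = ev p := RingHom.ext fun t =>
    congrArg Subtype.val (e.apply_symm_apply (((ev p).codRestrict g.toRingHom.range h) t))
  have hs : Spec.map (CommRingCat.ofHom g.toRingHom) ≫ Spec.map (CommRingCat.ofHom f) =
      p.left ≫ T.left.isoSpec.hom := by
    rw [← Spec.map_comp, ← spec_ev, ← hf]
    rfl
  let γT := Spec.preimage (T.left.isoSpec.inv ≫ T.hom)
  have hγ : (ev p).comp γT.hom = algebraMap A R' := by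
    have h1 : Spec.map (γT ≫ CommRingCat.ofHom (ev p)) = Spec.map (CommRingCat.ofHom (algebraMap A R')) := by
      rw [Spec.map_comp, spec_ev, Spec.map_preimage, Category.assoc, Iso.hom_inv_id_assoc]
      exact Over.w p
    exact congrArg CommRingCat.Hom.hom (Spec.map_injective h1)
  refine ⟨Over.homMk (Spec.map (CommRingCat.ofHom f) ≫ T.left.isoSpec.inv) ?_, Over.OverMorphism.ext ?_⟩
  · show (_ ≫ _) ≫ T.hom = Spec.map _
    rw [Category.assoc, ← Spec.map_preimage (T.left.isoSpec.inv ≫ T.hom), ← Spec.map_comp]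
    congr 1
    refine CommRingCat.hom_ext (RingHom.ext fun a => hg ?_)
    have := congrArg (fun k : A →+* R' => k a) hγ
    rw [← hf] at this
    exact this.trans (g.commutes a).symm
  · show Spec.map _ ≫ Spec.map _ ≫ T.left.isoSpec.inv = p.left
    rw [← Category.assoc, hs, Category.assoc, Iso.hom_inv_id, Category.comp_id]

end Affine

/-- A function which is invariant under a subgroup, multiplied over the cosets, is equivariant. -/
theorem prod_coset {G : Type*} [Group G] (D : Subgroup G) [Fintype (G ⧸ D)] {M : Type*} [CommMonoid M]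
    (F : G → M) (hF : ∀ c, ∀ d ∈ D, F (c * d) = F c) (g : G) :
    ∏ q : G ⧸ D, F (g * q.out) = ∏ q : G ⧸ D, F q.out := by
  refine Fintype.prod_bijective (fun q : G ⧸ D => g • q) (MulAction.bijective g) _ _ fun q => ?_
  have h : ((g * q.out : G) : G ⧸ D) = g • q := by
    conv_rhs => rw [← QuotientGroup.out_eq' q]
    rfl
  obtain ⟨d, hd⟩ := QuotientGroup.mk_out_eq_mul D (g * q.out)
  rw [← h, hd, hF _ _ d.2]

variable {A : Type u} [CommRing A] [IsDomain A] [IsDiscreteValuationRing A] (v : HeightOneSpectrum A)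

local notation "Khat" => v.adicCompletion (FractionRing A)
local notation "Ahat" => v.adicCompletionIntegers (FractionRing A)

theorem exists_mul_of_split (T : Over (Spec (CommRingCat.of A))) [GrpObj T] [IsAffine T.left] (r : ℕ)
    (B : Type u) [CommRing B] [IsDomain B] [Algebra A B] [FaithfulSMul A B] [Module.Finite A B]
    [Algebra.FormallyUnramified A B]
    (φ : Grp.mk (Red.bc (Spec.map (CommRingCat.ofHom (algebraMap A B))) T) ≅
      Grp.mk (Red.DS (Spec (CommRingCat.of B)) (Fin r → ℤ)))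
    (hfix : ∀ b c : B, c ≠ 0 → (∀ g : B ≃ₐ[A] B, g b * c = b * g c) →
      ∃ a a' : A, a' ≠ 0 ∧ algebraMap A B a * c = b * algebraMap A B a')
    (x : Sp A Khat ⟶ T) :
    ∃ (a : Sp A Ahat ⟶ T) (b : Sp A (FractionRing A) ⟶ T),
      x = (SpMap (IsScalarTower.toAlgHom A Ahat Khat) ≫ a) *
        (SpMap (IsScalarTower.toAlgHom A (FractionRing A) Khat) ≫ b) := by
  classical
  obtain ⟨π, hπ⟩ := IsDiscreteValuationRing.exists_irreducible A
  obtain ⟨P⟩ := nonempty_place v B hπ
  obtain ⟨θ, hθmul, hθone, hθhom, hθ⟩ := exists_action r φ (A := A)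
  haveI : Finite (B →ₐ[A] B) := finite_algHom B B
  haveI : Finite (B ≃ₐ[A] B) := Finite.of_injective (fun g => g.toAlgHom) fun g h e =>
    AlgEquiv.ext fun b => AlgHom.congr_fun e b
  haveI := P.w_maximal
  let R := FractionRing B
  let ψR : B →ₐ[A] R := IsScalarTower.toAlgHom A B R
  let ψE : B →ₐ[A] P.E := P.iO.comp P.ψO
  have hψE : Function.Injective ψE := P.iO_inj.comp P.ψ_inj
  let ρ : R →ₐ[A] P.E := IsFractionRing.liftAlgHom (g := ψE) hψE
  have hρ : ∀ b, ρ (algebraMap B R b) = ψE b := fun b => IsFractionRing.lift_algebraMap (K := R) hψE b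
  let D : Subgroup (B ≃ₐ[A] B) :=
    { carrier := {g | ∀ b, g b ∈ P.w ↔ b ∈ P.w}
      one_mem' := fun b => Iff.rfl
      mul_mem' := fun {g h} hg hh b => (hg (h b)).trans (hh b)
      inv_mem' := fun {g} hg b => by
        rw [← hg]
        show g (g.symm b) ∈ P.w ↔ b ∈ P.w
        rw [AlgEquiv.apply_symm_apply] }
  haveI : Fintype (B ≃ₐ[A] B) := Fintype.ofFinite _
  haveI : Fintype ((B ≃ₐ[A] B) ⧸ D) := Fintype.ofFinite _
  -- the auxiliary idempotent modulo the places of the orbit
  have hex : ∀ g : B ≃ₐ[A] B, ∃ e : B, e - 1 ∈ P.w ∧ (g ∉ D → g e ∈ P.w) := by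
    intro g
    by_cases hg : g ∈ D
    · exact ⟨1, by simp, fun h => absurd hg h⟩
    · let wg : Ideal B := P.w.comap g.toAlgHom
      haveI : wg.IsMaximal := Ideal.comap_isMaximal_of_surjective g.toAlgHom g.surjective
      have hne : wg ≠ P.w := fun h => hg fun b => iff_of_eq (congrArg (b ∈ ·) h)
      obtain ⟨a, ha, b, hb, hab⟩ := Submodule.mem_sup.1
        (show (1 : B) ∈ wg ⊔ P.w by rw [Ideal.IsMaximal.coprime_of_ne inferInstance inferInstance hne]; trivial)
      exact ⟨a, by rw [← hab, sub_add_cancel_left]; exact P.w.neg_mem hb, fun _ => ha⟩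
  choose e1 he1 he2 using hex
  let mk := Ideal.Quotient.mk P.w
  let e0 : B := ∏ g, e1 g
  have he01 : mk e0 = 1 := by
    rw [map_prod]
    exact Finset.prod_eq_one fun g _ => by
      rw [← map_one mk]; exact Ideal.Quotient.eq.2 (he1 g)
  let e : B := ∏ d : D, (d : B ≃ₐ[A] B) e0
  have he_mod : mk e = 1 := by
    rw [map_prod]
    refine Finset.prod_eq_one fun d _ => ?_
    rw [← map_one mk, Ideal.Quotient.eq, ← map_one (d : B ≃ₐ[A] B), ← map_sub]
    refine (d.2 _).2 ?_
    rw [← Ideal.Quotient.eq]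
    exact he01.trans (map_one mk).symm
  have he_fix : ∀ d ∈ D, d e = e := by
    intro d hd
    show d (∏ c : D, _) = _
    rw [map_prod]
    exact Fintype.prod_bijective (fun c : D => (⟨d, hd⟩ : D) * c) (Group.mulLeft_bijective _) _ _ fun c => rfl
  have he_out : ∀ g, g ∉ D → g e ∈ P.w := by
    intro g hg
    refine P.w.mem_of_dvd (map_dvd g.toAlgHom ((Finset.dvd_prod_of_mem (fun d : D => (d : B ≃ₐ[A] B) e0)
      (Finset.mem_univ (1 : D))))) ?_
    show g (e0) ∈ P.w
    exact P.w.mem_of_dvd (map_dvd g.toAlgHom (Finset.dvd_prod_of_mem e1 (Finset.mem_univ g))) (he2 g hg)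
  let πB : B := algebraMap A B π
  let q : B := πB * e + (1 - e) ^ 2
  have hq_fix : ∀ d ∈ D, d q = q := fun d hd => by
    simp only [q, πB, map_add, map_mul, map_pow, map_sub, map_one, he_fix d hd, AlgEquiv.commutes]
  have he_unit : IsUnit (P.ψO e) := P.unit_of_notMem e fun h => by
    rw [← Ideal.Quotient.eq_zero_iff_mem] at h
    exact one_ne_zero (he_mod.symm.trans h)
  have hq_w : ∃ u : P.Oˣ, P.ψO q = u * algebraMap A P.O π := by
    obtain ⟨y, hy⟩ := P.dvd_of_mem (1 - e) (by
      rw [← Ideal.Quotient.eq_zero_iff_mem, map_sub, map_one, sub_eq_zero]; exact he_mod.symm)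
    refine ⟨(P.unit_add _ (y ^ 2) he_unit).unit, ?_⟩
    rw [IsUnit.unit_spec]
    simp only [q, πB, map_add, map_mul, map_pow, AlgHom.commutes, hy]
    ring
  have hq_out : ∀ g, g ∉ D → IsUnit (P.ψO (g q)) := by
    intro g hg
    refine P.unit_of_notMem _ fun h => ?_
    have h1 : mk (g q) = 0 := Ideal.Quotient.eq_zero_iff_mem.2 h
    have h2 : mk (g e) = 0 := Ideal.Quotient.eq_zero_iff_mem.2 (he_out g hg)
    simp only [q, map_add, map_mul, map_pow, map_sub, map_one, h2, mul_zero, sub_zero, one_pow, zero_add] at h1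
    exact one_ne_zero h1
  have hπE : algebraMap A P.E π ≠ 0 := by
    rw [← AlgHom.commutes ψE]
    exact fun h => hπ.ne_zero (FaithfulSMul.algebraMap_injective A B (by
      rw [map_zero]; exact hψE (h.trans (map_zero ψE).symm)))
  have hq0 : ∀ g : B ≃ₐ[A] B, algebraMap B R (g q) ≠ 0 := fun g h => by
    rw [IsFractionRing.to_map_eq_zero_iff, map_eq_zero_iff _ g.injective] at h
    obtain ⟨u, hu⟩ := hq_w
    rw [h, map_zero] at hu
    have hπ0 := congrArg P.iO ((u.isUnit.mul_right_eq_zero).1 hu.symm)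
    rw [AlgHom.commutes, map_zero] at hπ0
    exact hπE hπ0
  -- the order of the character values
  let xE : Sp A P.E ⟶ T := SpMap P.j ≫ x
  choose u ν hν using fun m => P.exists_unit_mul_zpow _ (Ch_isUnit r φ ψE xE m).ne_zero
  have hνhom : ∀ m m', ν (m * m') = ν m + ν m' := fun m m' =>
    P.unique_zpow (u (m * m')) (u m * u m') _ _ (by
      rw [← hν, map_mul, hν, hν, Units.val_mul, map_mul, zpow_add₀ hπE]
      ring)
  have hνD : ∀ g ∈ D, ∀ m, ν (θ g m) = ν m := by
    intro g hg m
    obtain ⟨τ, τO, h1, h2, h3⟩ := P.symm g hg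
    have hψ : τ.comp ψE = ψE.comp g.toAlgHom := by
      rw [← AlgHom.comp_assoc, h1, AlgHom.comp_assoc, h3, ← AlgHom.comp_assoc]
    have hx : SpMap τ ≫ xE = xE := by rw [← Category.assoc, SpMap_comp, h2]
    have h := Ch_comp r φ τ ψE xE m
    rw [hψ, hx, hθ, hν, hν, map_mul, map_zpow₀, AlgHom.commutes,
      show τ (P.iO (u m : P.O)) = P.iO (τO (u m : P.O)) from AlgHom.congr_fun h1 _] at h
    exact P.unique_zpow (u (θ g m)) (Units.map (τO : P.O →* P.O) (u m)) _ _ h
  -- the rational point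
  let F : Multiplicative (Fin r → ℤ) → (B ≃ₐ[A] B) → R := fun m c => algebraMap B R (c q) ^ ν (θ c⁻¹ m)
  have hF : ∀ m c, ∀ d ∈ D, F m (c * d) = F m c := by
    intro m c d hd
    show algebraMap B R (c (d q)) ^ ν (θ (c * d)⁻¹ m) = _
    rw [hq_fix d hd, _root_.mul_inv_rev, hθmul, hνD _ (D.inv_mem hd)]
  have hν1 : ν 1 = 0 := by
    have := hνhom 1 1
    rw [_root_.mul_one] at this
    omega
  let χ : Multiplicative (Fin r → ℤ) →* R :=
    { toFun := fun m => ∏ c : (B ≃ₐ[A] B) ⧸ D, F m c.out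
      map_one' := Finset.prod_eq_one fun c _ => by
        have h1 : θ c.out⁻¹ 1 = 1 := by
          have := hθhom c.out⁻¹ 1 1
          rw [_root_.mul_one] at this
          exact (left_eq_mul (M := Multiplicative (Fin r → ℤ))).1 this
        show _ ^ ν (θ c.out⁻¹ 1) = _
        rw [h1, hν1, zpow_zero]
      map_mul' := fun m m' => by
        rw [← Finset.prod_mul_distrib]
        refine Finset.prod_congr rfl fun c _ => ?_
        show _ ^ ν (θ c.out⁻¹ (m * m')) = _
        rw [hθhom, hνhom, zpow_add₀ (hq0 _)] }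
  obtain ⟨y, hy⟩ := exists_Ch r φ ψR χ
  have hyfix : ∀ g : B ≃ₐ[A] B, ∃ gR : R →ₐ[A] R,
      (∀ b, gR (algebraMap B R b) = algebraMap B R (g b)) ∧ SpMap gR ≫ y = y := by
    intro g
    have hinj : Function.Injective (ψR.comp g.toAlgHom) := (IsFractionRing.injective B R).comp g.injective
    let gR : R →ₐ[A] R := IsFractionRing.liftAlgHom (g := ψR.comp g.toAlgHom) hinj
    have hgR : ∀ b, gR (algebraMap B R b) = algebraMap B R (g b) := fun b =>
      IsFractionRing.lift_algebraMap (K := R) hinj b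
    refine ⟨gR, hgR, Ch_ext r φ ψR fun n => ?_⟩
    have h := Ch_comp r φ gR ψR y (θ g⁻¹ n)
    rw [show gR.comp ψR = ψR.comp g.toAlgHom from AlgHom.ext hgR, hθ, hy, ← hθmul, mul_inv_cancel, hθone] at h
    rw [h, hy]
    show gR (∏ c : (B ≃ₐ[A] B) ⧸ D, F (θ g⁻¹ n) c.out) = ∏ c : (B ≃ₐ[A] B) ⧸ D, F n c.out
    rw [map_prod, ← prod_coset D (F n) (hF n) g]
    refine Finset.prod_congr rfl fun c _ => ?_
    show gR (_ ^ _) = algebraMap B R (g (c.out q)) ^ ν (θ (g * c.out)⁻¹ n)
    rw [map_zpow₀, hgR, _root_.mul_inv_rev, hθmul]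
  let κ : FractionRing A →ₐ[A] R := IsFractionRing.liftAlgHom (g := Algebra.ofId A R)
    ((IsFractionRing.injective B R).comp (FaithfulSMul.algebraMap_injective A B))
  obtain ⟨b, hb⟩ := exists_factor κ κ.injective y fun t => by
    obtain ⟨bn, bd, hbd, hbt⟩ := IsFractionRing.div_surjective (A := B) (ev y t)
    have hd0 := nonZeroDivisors.ne_zero hbd
    obtain ⟨a, a', ha', haa⟩ := hfix bn bd hd0 fun g => by
      obtain ⟨gR, hgR, hgy⟩ := hyfix g
      have h : gR (ev y t) = ev y t := by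
        conv_rhs => rw [← hgy, ev_comp]
        rfl
      rw [← hbt, map_div₀, hgR, hgR, div_eq_div_iff (by simpa using hd0) (by simpa using hd0),
        ← map_mul, ← map_mul] at h
      exact IsFractionRing.injective B R h
    refine ⟨algebraMap A (FractionRing A) a / algebraMap A (FractionRing A) a', ?_⟩
    show κ _ = _
    rw [map_div₀, AlgHom.commutes, AlgHom.commutes, ← hbt, IsScalarTower.algebraMap_apply A B R,
      IsScalarTower.algebraMap_apply A B R, div_eq_div_iff ?_ (by simpa using hd0), ← map_mul, ← map_mul, haa]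
    simpa using ha'
  -- the integral point
  let iK : FractionRing A →ₐ[A] Khat := IsScalarTower.toAlgHom A (FractionRing A) Khat
  let iA : Ahat →ₐ[A] Khat := IsScalarTower.toAlgHom A Ahat Khat
  let z : Sp A Khat ⟶ T := x * (SpMap iK ≫ b)⁻¹
  have hxz : x = z * (SpMap iK ≫ b) := (inv_mul_cancel_right x _).symm
  have hjb : SpMap P.j ≫ SpMap iK ≫ b = SpMap ρ ≫ y := by
    have e : P.j.comp iK = ρ.comp κ := IsLocalization.algHom_ext (nonZeroDivisors A) (Subsingleton.elim _ _)
    rw [← hb, ← Category.assoc, ← Category.assoc, SpMap_comp, SpMap_comp, e]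
  let zE : Sp A P.E ⟶ T := SpMap P.j ≫ z
  have hzE : ∀ m, ∃ o : P.O, P.iO o = Ch r φ ψE zE m := by
    intro m
    have h1 : Ch r φ ψE xE m = Ch r φ ψE zE m * ρ (χ m) := by
      rw [show xE = zE * (SpMap ρ ≫ y) by rw [← hjb, ← MonObj.comp_mul, ← hxz], Ch_mul,
        ← hy, ← Ch_comp, show ρ.comp ψR = ψE from AlgHom.ext hρ]
    have h2 : ∃ w : P.Oˣ, ρ (χ m) = P.iO w * algebraMap A P.E π ^ ν m := by
      let S : Submonoid P.E := (IsUnit.submonoid P.O).map P.iO
      have hzpow : ∀ o : P.O, IsUnit o → ∀ n : ℤ, P.iO o ^ n ∈ S := by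
        intro o ho n
        refine ⟨((ho.unit ^ n : P.Oˣ) : P.O), (ho.unit ^ n).isUnit, ?_⟩
        have := map_zpow (Units.map (P.iO : P.O →* P.E)) ho.unit n
        exact (congrArg Units.val this).trans (Units.val_zpow_eq_zpow_val _ n)
      let q1 : (B ≃ₐ[A] B) ⧸ D := ((1 : B ≃ₐ[A] B) : (B ≃ₐ[A] B) ⧸ D)
      have hF1 : ρ (F m q1.out) = ψE q ^ ν m := by
        obtain ⟨d, hd⟩ := QuotientGroup.mk_out_eq_mul D (1 : B ≃ₐ[A] B)
        show ρ (F m (q1.out)) = _
        rw [show q1.out = 1 * (d : B ≃ₐ[A] B) from hd, hF m 1 d d.2]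
        show ρ (algebraMap B R q ^ ν (θ 1⁻¹ m)) = _
        rw [map_zpow₀, hρ, inv_one, hθone]
      have hrest : ρ (∏ c ∈ Finset.univ.erase q1, F m c.out) ∈ S := by
        rw [map_prod]
        refine prod_mem fun c hc => ?_
        rw [map_zpow₀, hρ]
        refine hzpow _ (hq_out _ fun h => (Finset.mem_erase.1 hc).1 ?_) _
        rw [← QuotientGroup.out_eq' c]
        exact QuotientGroup.eq.2 (by simpa using D.inv_mem h)
      obtain ⟨w1, hw1, hw1'⟩ := hrest
      obtain ⟨uq, huq⟩ := hq_w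
      obtain ⟨w2, hw2, hw2'⟩ := hzpow (uq : P.O) uq.isUnit (ν m)
      refine ⟨(hw2.mul hw1).unit, ?_⟩
      show ρ (∏ c : (B ≃ₐ[A] B) ⧸ D, F m c.out) = _
      rw [← Finset.mul_prod_erase Finset.univ _ (Finset.mem_univ q1), map_mul, hF1, ← hw1', IsUnit.unit_spec,
        show ψE q = P.iO (uq : P.O) * algebraMap A P.E π by
          show P.iO (P.ψO q) = _; rw [huq, map_mul, AlgHom.commutes],
        mul_zpow, ← hw2', map_mul]
      ring
    obtain ⟨w, hw⟩ := h2
    rw [hν, hw, ← mul_assoc] at h1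
    have h3 := mul_right_cancel₀ (zpow_ne_zero _ hπE) h1
    refine ⟨u m * (w⁻¹ : P.Oˣ), ?_⟩
    rw [map_mul, h3, mul_assoc, ← map_mul, Units.mul_inv, map_one, _root_.mul_one]
  choose o ho using hzE
  let χO : Multiplicative (Fin r → ℤ) →* P.O :=
    { toFun := o
      map_one' := P.iO_inj (by rw [ho, map_one, map_one])
      map_mul' := fun m m' => P.iO_inj (by rw [map_mul, ho, ho, ho, map_mul]) }
  obtain ⟨z', hz'⟩ := exists_Ch r φ P.ψO χO
  have hzz : SpMap P.iO ≫ z' = zE := Ch_ext r φ ψE fun m => by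
    rw [show ψE = P.iO.comp P.ψO from rfl, Ch_comp, hz']
    exact ho m
  obtain ⟨a, ha⟩ := exists_factor iA Subtype.val_injective z fun t => by
    have h := congrArg (fun p => ev p t) hzz
    change ev (SpMap P.iO ≫ z') t = ev (SpMap P.j ≫ z) t at h
    rw [ev_comp, ev_comp] at h
    exact ⟨⟨ev z t, P.mem_integers _ _ h⟩, rfl⟩
  exact ⟨a, b, hxz.trans (congrArg (· * _) ha.symm)⟩

end Groth.Agent.IsoTorusPts
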