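import Groth.Agent.HomDiag.Points
import Groth.Agent.TorusUnits.Basic

/-!
Points of a torus split by an extension of the base ring, in terms of characters.
-/

set_option autoImplicit false
set_option backward.isDefEq.respectTransparency false
set_option backward.isDefEq.respectTransparency.types false
set_option linter.style.haveILetI false
set_option linter.unusedSectionVars false
set_option synthInstance.maxHeartbeats 400000
set_option maxHeartbeats 1000000

universe u

open CategoryTheory Limits MonoidalCategory CartesianMonoidalCategory AlgebraicGeometry Opposite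
open scoped MonObj CategoryTheory.Obj

noncomputable section

namespace Groth.Agent.IsoTorusPts

open Groth.Agent.MTBridge Groth.Agent.HomDiag

variable {A : Type u} [CommRing A]

/-- An affine object over `Spec A`. -/
abbrev Sp (A : Type u) [CommRing A] (R : Type u) [CommRing R] [Algebra A R] : Over (Spec (CommRingCat.of A)) :=
  Over.mk (Spec.map (CommRingCat.ofHom (algebraMap A R)))

/-- The map of affine objects of an algebra map. -/
def SpMap {R R' : Type u} [CommRing R] [Algebra A R] [CommRing R'] [Algebra A R'] (g : R →ₐ[A] R') :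
    Sp A R' ⟶ Sp A R :=
  Over.homMk (Spec.map (CommRingCat.ofHom g.toRingHom)) (by
    show _ ≫ Spec.map _ = Spec.map _
    rw [← Spec.map_comp]
    congr 1
    ext r
    exact g.commutes r)

theorem SpMap_comp {R R' R'' : Type u} [CommRing R] [Algebra A R] [CommRing R'] [Algebra A R'] [CommRing R'']
    [Algebra A R''] (g : R →ₐ[A] R') (g' : R' →ₐ[A] R'') : SpMap g' ≫ SpMap g = SpMap (g'.comp g) :=
  Over.OverMorphism.ext (show Spec.map _ ≫ Spec.map _ = Spec.map _ by rw [← Spec.map_comp]; rfl)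

theorem SpMap_id {R : Type u} [CommRing R] [Algebra A R] : SpMap (AlgHom.id A R) = 𝟙 (Sp A R) :=
  Over.OverMorphism.ext (Spec.map_id _)

variable {T : Over (Spec (CommRingCat.of A))} [GrpObj T] {B : Type u} [CommRing B] [Algebra A B]

/-- An object over `Spec B`. -/
abbrev SB {R : Type u} [CommRing R] [Algebra A R] (ψ : B →ₐ[A] R) : Over (Spec (CommRingCat.of B)) :=
  Over.mk (Spec.map (CommRingCat.ofHom ψ.toRingHom))

/-- Forgetting the structure over `Spec B`. -/
def zf {R : Type u} [CommRing R] [Algebra A R] (ψ : B →ₐ[A] R) :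
    (Over.map (Spec.map (CommRingCat.ofHom (algebraMap A B)))).obj (SB ψ) ⟶ Sp A R :=
  Over.homMk (𝟙 _) (by
    show 𝟙 _ ≫ Spec.map _ = Spec.map _ ≫ Spec.map _
    rw [Category.id_comp, ← Spec.map_comp]
    congr 1
    ext r
    exact (ψ.commutes r).symm)

instance {R : Type u} [CommRing R] [Algebra A R] (ψ : B →ₐ[A] R) : IsIso (zf ψ) := by
  haveI : IsIso ((Over.forget _).map (zf ψ)) := inferInstanceAs (IsIso (𝟙 _))
  exact isIso_of_reflects_iso (zf ψ) (Over.forget _)

variable (r : ℕ) (φ : Grp.mk (Red.bc (Spec.map (CommRingCat.ofHom (algebraMap A B))) T) ≅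
    Grp.mk (Red.DS (Spec (CommRingCat.of B)) (Fin r → ℤ)))

/-- The point of the diagonalisable group. -/
def toDS {R : Type u} [CommRing R] [Algebra A R] (ψ : B →ₐ[A] R) (p : Sp A R ⟶ T) :
    SB ψ ⟶ Red.DS (Spec (CommRingCat.of B)) (Fin r → ℤ) :=
  toBC _ (zf ψ ≫ p) ≫ φ.hom.hom.hom

/-- The values of the characters at a point. -/
def Ch {R : Type u} [CommRing R] [Algebra A R] (ψ : B →ₐ[A] R) (p : Sp A R ⟶ T) :
    Multiplicative (Fin r → ℤ) →* R :=
  (Scheme.ΓSpecIso (CommRingCat.of R)).hom.hom.toMonoidHom.comp (HomDiag.ch (toDS r φ ψ p))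

theorem Ch_isUnit {R : Type u} [CommRing R] [Algebra A R] (ψ : B →ₐ[A] R) (p : Sp A R ⟶ T)
    (m : Multiplicative (Fin r → ℤ)) : IsUnit (Ch r φ ψ p m) :=
  (Group.isUnit m).map _

theorem Ch_mul {R : Type u} [CommRing R] [Algebra A R] (ψ : B →ₐ[A] R) (p q : Sp A R ⟶ T)
    (m : Multiplicative (Fin r → ℤ)) : Ch r φ ψ (p * q) m = Ch r φ ψ p m * Ch r φ ψ q m := by
  show (Scheme.ΓSpecIso (CommRingCat.of R)).hom.hom (HomDiag.ch (toDS r φ ψ (p * q)) m) = _
  rw [show toDS r φ ψ (p * q) = toDS r φ ψ p * toDS r φ ψ q by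
    rw [toDS, toDS, toDS, MonObj.comp_mul, toBC_mul, MonObj.mul_comp], ch_mul, map_mul]
  rfl

theorem Ch_one {R : Type u} [CommRing R] [Algebra A R] (ψ : B →ₐ[A] R) (m : Multiplicative (Fin r → ℤ)) :
    Ch r φ ψ (1 : Sp A R ⟶ T) m = 1 := by
  have h := Ch_mul r φ ψ 1 1 m
  rw [_root_.one_mul] at h
  exact (Ch_isUnit r φ ψ 1 m).mul_left_cancel (h.symm.trans (_root_.mul_one _).symm)

theorem Ch_ext {R : Type u} [CommRing R] [Algebra A R] (ψ : B →ₐ[A] R) {p q : Sp A R ⟶ T}
    (h : ∀ m, Ch r φ ψ p m = Ch r φ ψ q m) : p = q := by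
  have e : toDS r φ ψ p = toDS r φ ψ q := ch_ext fun m =>
    (ConcreteCategory.bijective_of_isIso (Scheme.ΓSpecIso (CommRingCat.of R)).hom).1 (h m)
  haveI : IsIso φ.hom.hom.hom := inferInstanceAs (IsIso ((Grp.forget _).map φ.hom))
  rw [toDS, toDS, cancel_mono] at e
  exact (cancel_epi (zf ψ)).1 (((Over.mapPullbackAdj _).homEquiv _ _).injective e)

theorem exists_Ch {R : Type u} [CommRing R] [Algebra A R] (ψ : B →ₐ[A] R)
    (χ : Multiplicative (Fin r → ℤ) →* R) : ∃ p : Sp A R ⟶ T, ∀ m, Ch r φ ψ p m = χ m := by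
  haveI : IsIso φ.hom.hom.hom := inferInstanceAs (IsIso ((Grp.forget _).map φ.hom))
  obtain ⟨x, hx⟩ := exists_ch (X := SB ψ)
    ((Scheme.ΓSpecIso (CommRingCat.of R)).inv.hom.toMonoidHom.comp χ)
  obtain ⟨a, ha⟩ := exists_toBC_eq _ (x ≫ CategoryTheory.inv φ.hom.hom.hom)
  refine ⟨CategoryTheory.inv (zf ψ) ≫ a, fun m => ?_⟩
  show (Scheme.ΓSpecIso (CommRingCat.of R)).hom.hom (HomDiag.ch (toDS r φ ψ _) m) = _
  rw [toDS, IsIso.hom_inv_id_assoc, ha, Category.assoc, IsIso.inv_hom_id, Category.comp_id, hx]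
  exact RingHom.congr_fun (congrArg CommRingCat.Hom.hom (Scheme.ΓSpecIso (CommRingCat.of R)).inv_hom_id) (χ m)

/-- Naturality. -/
theorem Ch_comp {R R' : Type u} [CommRing R] [Algebra A R] [CommRing R'] [Algebra A R'] (g : R →ₐ[A] R')
    (ψ : B →ₐ[A] R) (p : Sp A R ⟶ T) (m : Multiplicative (Fin r → ℤ)) :
    Ch r φ (g.comp ψ) (SpMap g ≫ p) m = g (Ch r φ ψ p m) := by
  let q : SB (g.comp ψ) ⟶ SB ψ := Over.homMk (Spec.map (CommRingCat.ofHom g.toRingHom)) (by
    show Spec.map _ ≫ Spec.map _ = Spec.map _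
    rw [← Spec.map_comp]
    rfl)
  have h1 : zf (g.comp ψ) ≫ SpMap g ≫ p = (Over.map _).map q ≫ zf ψ ≫ p := by
    rw [← Category.assoc, ← Category.assoc]
    refine congrArg (· ≫ p) (Over.OverMorphism.ext ?_)
    show 𝟙 _ ≫ Spec.map _ = Spec.map _ ≫ 𝟙 _
    rw [Category.id_comp, Category.comp_id]
  have h2 : toDS r φ (g.comp ψ) (SpMap g ≫ p) = q ≫ toDS r φ ψ p := by
    rw [toDS, toDS, h1, ← Category.assoc q]
    exact congrArg (· ≫ φ.hom.hom.hom) ((Over.mapPullbackAdj _).homEquiv_naturality_left q _)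
  show (Scheme.ΓSpecIso (CommRingCat.of R')).hom.hom (HomDiag.ch (toDS r φ (g.comp ψ) _) m) = _
  rw [h2, ch_comp]
  exact RingHom.congr_fun (congrArg CommRingCat.Hom.hom
    (Scheme.ΓSpecIso_naturality (CommRingCat.ofHom g.toRingHom))) (HomDiag.ch (toDS r φ ψ p) m)

/-- Twisting the splitting by an automorphism permutes the characters. -/
theorem exists_twist [IsDomain B] (σ : B →ₐ[A] B) :
    ∃ θ : Multiplicative (Fin r → ℤ) → Multiplicative (Fin r → ℤ),
      ∀ (R : Type u) [CommRing R] [Algebra A R] (ψ : B →ₐ[A] R) (p : Sp A R ⟶ T) (m : Multiplicative (Fin r → ℤ)),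
        Ch r φ (ψ.comp σ) p m = Ch r φ ψ p (θ m) := by
  let M := Fin r → ℤ
  let U := AddMonoidAlgebra B M
  let incl : B →ₐ[A] U := IsScalarTower.toAlgHom A B U
  obtain ⟨P, hP⟩ := exists_Ch r φ incl (AddMonoidAlgebra.of B M)
  choose e c hc he using fun m => TorusUnits.exists_single_of_isUnit (G := M) (Ch_isUnit r φ (incl.comp σ) P m)
  have key : ∀ (R : Type u) [CommRing R] [Algebra A R] (ψ : B →ₐ[A] R) (p : Sp A R ⟶ T) (m : Multiplicative M),
      Ch r φ (ψ.comp σ) p m = ψ (c m) * Ch r φ ψ p (Multiplicative.ofAdd (e m)) := by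
    intro R _ _ ψ p m
    letI : Algebra B R := ψ.toRingHom.toAlgebra
    let g0 : U →ₐ[B] R := AddMonoidAlgebra.lift B R M (Ch r φ ψ p)
    let g : U →ₐ[A] R :=
      { g0.toRingHom with
        commutes' := fun a => by
          show g0 (algebraMap A U a) = algebraMap A R a
          rw [IsScalarTower.algebraMap_apply A B U, AlgHom.commutes]
          exact ψ.commutes a }
    have hg : g.comp incl = ψ := AlgHom.ext fun b => g0.commutes b
    have hp : SpMap g ≫ P = p := Ch_ext r φ ψ fun n => by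
      have h := Ch_comp r φ g incl P n
      rw [hg] at h
      rw [h, hP]
      show AddMonoidAlgebra.lift B R M (Ch r φ ψ p) (AddMonoidAlgebra.single n.toAdd 1) = _
      rw [AddMonoidAlgebra.lift_single, one_smul]
      rfl
    have h := Ch_comp r φ g (incl.comp σ) P m
    rw [← AlgHom.comp_assoc, hg, hp, he m] at h
    rw [h]
    show AddMonoidAlgebra.lift B R M (Ch r φ ψ p) (AddMonoidAlgebra.single (e m) (c m)) = _
    rw [AddMonoidAlgebra.lift_single, Algebra.smul_def]
    rfl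
  refine ⟨fun m => Multiplicative.ofAdd (e m), fun R _ _ ψ p m => ?_⟩
  have h1 := key B (AlgHom.id A B) 1 m
  rw [Ch_one, Ch_one, _root_.mul_one, AlgHom.id_apply] at h1
  rw [key, ← h1, map_one, _root_.one_mul]

/-- Characters are separated by points. -/
theorem Ch_separates [Nontrivial B] {m m' : Multiplicative (Fin r → ℤ)}
    (h : ∀ (R : Type u) [CommRing R] [Algebra A R] (ψ : B →ₐ[A] R) (p : Sp A R ⟶ T), Ch r φ ψ p m = Ch r φ ψ p m') :
    m = m' := by
  let incl : B →ₐ[A] AddMonoidAlgebra B (Fin r → ℤ) := IsScalarTower.toAlgHom A B _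
  obtain ⟨P, hP⟩ := exists_Ch r φ incl (AddMonoidAlgebra.of B (Fin r → ℤ))
  have h' := h _ incl P
  rw [hP, hP] at h'
  exact AddMonoidAlgebra.of_injective h'

/-- The Galois action on the character group. -/
theorem exists_action [IsDomain B] :
    ∃ θ : (B ≃ₐ[A] B) → Multiplicative (Fin r → ℤ) → Multiplicative (Fin r → ℤ),
      (∀ g h m, θ (g * h) m = θ g (θ h m)) ∧ (∀ m, θ 1 m = m) ∧ (∀ g m m', θ g (m * m') = θ g m * θ g m') ∧
      ∀ (R : Type u) [CommRing R] [Algebra A R] (g : B ≃ₐ[A] B) (ψ : B →ₐ[A] R) (p : Sp A R ⟶ T)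
        (m : Multiplicative (Fin r → ℤ)), Ch r φ (ψ.comp g.toAlgHom) p m = Ch r φ ψ p (θ g m) := by
  choose θ hθ using fun g : B ≃ₐ[A] B => exists_twist r φ g.toAlgHom
  refine ⟨θ, fun g h m => ?_, fun m => ?_, fun g m m' => ?_, fun R _ _ g => hθ g R⟩
  · refine Ch_separates r φ fun R _ _ ψ p => ?_
    rw [← hθ, ← hθ, ← hθ]
    exact congrArg (fun χ => Ch r φ χ p m) (AlgHom.ext fun b => rfl)
  · refine Ch_separates r φ fun R _ _ ψ p => ?_
    rw [← hθ]
    exact congrArg (fun χ => Ch r φ χ p m) (AlgHom.ext fun b => rfl)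
  · refine Ch_separates r φ fun R _ _ ψ p => ?_
    rw [← hθ, map_mul, map_mul, ← hθ, ← hθ]

end Groth.Agent.IsoTorusPts
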