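import Mathlib

/-!
The completed ring of integers of a discrete valuation ring.
-/

set_option autoImplicit false
set_option maxHeartbeats 800000

universe u

open IsDedekindDomain

noncomputable section

namespace Groth.Agent.IsoTorusPts

variable {A : Type u} [CommRing A] [IsDomain A] [IsDiscreteValuationRing A] (v : HeightOneSpectrum A)

local notation "𝐊" => FractionRing A
local notation "Khat" => v.adicCompletion (FractionRing A)
local notation "Ahat" => v.adicCompletionIntegers (FractionRing A)

theorem irreducible_algebraMap {π : A} (hπ : Irreducible π) : Irreducible (algebraMap A Ahat π) := by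
  have hv : v.asIdeal = Ideal.span {π} := by
    rw [← hπ.maximalIdeal_eq]
    exact IsLocalRing.eq_maximalIdeal (v.isPrime.isMaximal v.ne_bot)
  have h : Valued.v ((algebraMap A Ahat π : Ahat) : Khat) = WithZero.exp (-1 : ℤ) := by
    rw [HeightOneSpectrum.algebraMap_adicCompletionIntegers_apply, HeightOneSpectrum.valuedAdicCompletion_eq_valuation',
      HeightOneSpectrum.valuation_of_algebraMap, v.intValuation_singleton hπ.ne_zero hv]
  obtain ⟨p, hp⟩ := IsDiscreteValuationRing.exists_irreducible Ahat
  have h0 : algebraMap A Ahat π ≠ 0 := fun e => by simp [e, WithZero.exp_ne_zero.symm] at h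
  obtain ⟨n, u, hn⟩ := IsDiscreteValuationRing.eq_unit_mul_pow_irreducible h0 hp
  have hu : Valued.v ((u : Ahat) : Khat) = 1 := HeightOneSpectrum.adicCompletionIntegers.isUnit_iff_valued_eq_one.1 u.isUnit
  have hp1 : Valued.v (p : Khat) ≤ WithZero.exp (-1 : ℤ) := by
    have hlt : Valued.v (p : Khat) < 1 :=
      lt_of_le_of_ne p.2 fun e => hp.not_isUnit (HeightOneSpectrum.adicCompletionIntegers.isUnit_iff_valued_eq_one.2 e)
    by_cases hp0 : Valued.v (p : Khat) = 0
    · simp [hp0]
    · rw [← WithZero.exp_log hp0] at hlt ⊢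
      rw [← WithZero.exp_zero, WithZero.exp_lt_exp] at hlt
      rw [WithZero.exp_le_exp]
      omega
  have key := h
  rw [hn] at key
  push_cast at key
  rw [map_mul, hu, one_mul, map_pow] at key
  have hn1 : n = 1 := by
    rcases n with _ | _ | n
    · rw [pow_zero, eq_comm, WithZero.exp_eq_one] at key
      omega
    · rfl
    · have h2 : WithZero.exp (-1 : ℤ) ≤ WithZero.exp (-2 : ℤ) := by
        rw [← key]
        calc Valued.v (p : Khat) ^ (n + 2) ≤ Valued.v (p : Khat) ^ 2 := pow_le_pow_right_of_le_one' p.2 (by omega)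
          _ ≤ WithZero.exp (-1 : ℤ) ^ 2 := pow_le_pow_left' hp1 2
          _ = WithZero.exp (-2 : ℤ) := by rw [← WithZero.exp_nsmul]; rfl
      rw [WithZero.exp_le_exp] at h2
      omega
  rw [hn, hn1, pow_one]
  exact Associated.irreducible ⟨u, mul_comm _ _⟩ hp

theorem exists_sub_mem {π : A} (hπ : Irreducible π) (y : Ahat) :
    ∃ a : A, algebraMap A Ahat π ∣ y - algebraMap A Ahat a := by
  have hirr := irreducible_algebraMap v hπ
  have hp0 : ((algebraMap A Ahat π : Ahat) : Khat) ≠ 0 := fun e => hirr.ne_zero (Subtype.ext e)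
  let s : Set Khat := (fun z : Khat => (z - (y : Khat)) / ((algebraMap A Ahat π : Ahat) : Khat)) ⁻¹' (Ahat : Set Khat)
  have hs : IsOpen s := (Valued.isOpen_valuationSubring Khat).preimage
    ((continuous_id.sub continuous_const).div_const _)
  have hy : (y : Khat) ∈ s := by simp [s]
  obtain ⟨k, w, hw⟩ : ∃ k : 𝐊, ∃ w : Ahat, algebraMap 𝐊 Khat k - (y : Khat) = (algebraMap A Ahat π : Ahat) * w := by
    obtain ⟨k, hk⟩ := (HeightOneSpectrum.denseRange_algebraMap (K := FractionRing A) v).exists_mem_open hs ⟨_, hy⟩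
    exact ⟨k, ⟨_, hk⟩, (mul_div_cancel₀ _ hp0).symm⟩
  have hk : Valued.v (algebraMap 𝐊 Khat k) ≤ 1 := by
    have : algebraMap 𝐊 Khat k = ((y + algebraMap A Ahat π * w : Ahat) : Khat) := by
      push_cast
      rw [← hw]
      ring
    rw [this]
    exact (y + algebraMap A Ahat π * w).2
  have hk' : v.valuation 𝐊 k ≤ 1 := by
    rw [← HeightOneSpectrum.valuedAdicCompletion_eq_valuation' (v := v)]
    simpa [HeightOneSpectrum.algebraMap_adicCompletion] using hk
  obtain ⟨a, ha⟩ := v.exists_valuation_sub_lt_of_integer (K := FractionRing A) hk' 1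
  let d : Khat := algebraMap 𝐊 Khat (algebraMap A 𝐊 a - k)
  have hd : Valued.v d < 1 := by
    simp only [d, HeightOneSpectrum.algebraMap_adicCompletion, Function.comp_apply]
    rw [HeightOneSpectrum.valuedAdicCompletion_eq_valuation']
    simpa using ha
  let d' : Ahat := ⟨d, hd.le⟩
  have hdvd : algebraMap A Ahat π ∣ d' := by
    rw [← Ideal.mem_span_singleton, ← hirr.maximalIdeal_eq, IsLocalRing.mem_maximalIdeal, mem_nonunits_iff,
      HeightOneSpectrum.adicCompletionIntegers.isUnit_iff_valued_eq_one]
    exact hd.ne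
  refine ⟨a, ?_⟩
  have : y - algebraMap A Ahat a = -(algebraMap A Ahat π * w) - d' := by
    refine Subtype.ext ?_
    show (y : Khat) - ((algebraMap A Ahat a : Ahat) : Khat) = -((algebraMap A Ahat π : Ahat) * w : Khat) - d
    rw [← hw]
    simp [d, map_sub, HeightOneSpectrum.algebraMap_adicCompletion]
  rw [this]
  exact dvd_sub ((dvd_mul_right _ _).neg_right) hdvd

end Groth.Agent.IsoTorusPts
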